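/-
Groups with 2-closed pi-subgroups that are pi-homogeneous: first properties.

Main results (namespace `Cfsg.Agent.PiHomog`):
* `IsPi`, `IsPiPrime`, `TwoClosed`, `Homog`, `Split` : the notions of S3258;
* `Hyp.subgroup` : the hypotheses pass to subgroups;
* `Homog.mem_centralizer` : pi-prime elements centralise the pi-subgroups they normalise;
* `Hyp.no_dihedral` : no involution inverts an element of odd prime order in pi.
-/
import Cfsg.Agent.EqLemmas
import Cfsg.Agent.Lib.Involution.StronglyEmbedded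
import Cfsg.Agent.Lib.JComp.Pair
import Cfsg.Agent.Lib.Cores.Basic

set_option autoImplicit false
set_option linter.unusedSectionVars false
set_option linter.style.haveILetI false

namespace Cfsg.Agent.PiHomog

open Subgroup

variable {π : Set ℕ} {G : Type*} [Group G]

/-- Only primes of `π` divide the order. -/
def IsPi (π : Set ℕ) {G : Type*} [Group G] (H : Subgroup G) : Prop :=
  ∀ p : ℕ, p.Prime → p ∣ Nat.card ↥H → p ∈ π

/-- No prime of `π` divides the order. -/
def IsPiPrime (π : Set ℕ) {G : Type*} [Group G] (x : G) : Prop :=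
  ∀ p : ℕ, p.Prime → p ∣ orderOf x → p ∉ π

/-- All `π`-subgroups have a normal Sylow 2-subgroup. -/
def TwoClosed (π : Set ℕ) (G : Type*) [Group G] : Prop :=
  ∀ H : Subgroup G, (∀ p : ℕ, p.Prime → p ∣ Nat.card ↥H → p ∈ π) → ∀ P : Sylow 2 ↥H, (P : Subgroup ↥H).Normal

/-- `π`-homogeneity. -/
def Homog (π : Set ℕ) (G : Type*) [Group G] : Prop :=
  ∀ H : Subgroup G, H ≠ ⊥ → (∀ p : ℕ, p.Prime → p ∣ Nat.card ↥H → p ∈ π) →
    ∀ p : ℕ, p.Prime → p ∣ (centralizer (H : Set G)).relIndex (normalizer (H : Set G)) → p ∈ π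

/-- The `π'`-elements form a subgroup. -/
def Split (π : Set ℕ) (G : Type*) [Group G] : Prop :=
  ∃ K : Subgroup G, ∀ x : G, x ∈ K ↔ ∀ p : ℕ, p.Prime → p ∣ orderOf x → p ∉ π

/-- The standing hypotheses. -/
structure Hyp (π : Set ℕ) (G : Type*) [Group G] : Prop where
  two : 2 ∈ π
  closed : TwoClosed π G
  homog : Homog π G

variable [Finite G]

theorem IsPi.of_le {H K : Subgroup G} (h : IsPi π K) (hle : H ≤ K) : IsPi π H :=
  fun p hp hd => h p hp (hd.trans (card_dvd_of_le hle))

theorem isPi_of_isPGroup {p : ℕ} [hp : Fact p.Prime] (hpi : p ∈ π) {H : Subgroup G} (hH : IsPGroup p H) :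
    IsPi π H := fun q hq hd => by
  obtain ⟨k, hk⟩ := IsPGroup.iff_card.1 hH
  exact (Nat.prime_dvd_prime_iff_eq hq hp.out).1 (hq.dvd_of_dvd_pow (hk ▸ hd)) ▸ hpi

/-- A subgroup all of whose elements are `π'` has order prime to `π`. -/
theorem not_dvd_card_of_piPrime {K : Subgroup G} (hK : ∀ x ∈ K, IsPiPrime π x) {p : ℕ} (hp : p.Prime)
    (hpi : p ∈ π) : ¬ p ∣ Nat.card ↥K := fun hd => by
  haveI : Fact p.Prime := ⟨hp⟩
  obtain ⟨y, hy⟩ := exists_prime_orderOf_dvd_card' (G := K) p hd
  exact hK y y.2 p hp (by rw [orderOf_coe, hy]) hpi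

theorem coprime_card {K H : Subgroup G} (hK : ∀ x ∈ K, IsPiPrime π x) (hH : IsPi π H) :
    (Nat.card H).Coprime (Nat.card K) :=
  Nat.coprime_of_dvd fun p hp h1 h2 => not_dvd_card_of_piPrime hK hp (hH p hp h1) h2

theorem IsPiPrime.odd (h2 : 2 ∈ π) {x : G} (hx : IsPiPrime π x) : Odd (orderOf x) := by
  rw [← Nat.not_even_iff_odd, even_iff_two_dvd]
  exact fun hd => hx 2 Nat.prime_two hd h2

theorem odd_card_of_piPrime (h2 : 2 ∈ π) {K : Subgroup G} (hK : ∀ x ∈ K, IsPiPrime π x) : Odd (Nat.card ↥K) := by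
  rw [← Nat.not_even_iff_odd, even_iff_two_dvd]
  exact not_dvd_card_of_piPrime hK Nat.prime_two h2

theorem IsPiPrime.eq_one {H : Subgroup G} (hH : IsPi π H) {x : G} (hx : IsPiPrime π x) (hxH : x ∈ H) :
    x = 1 := by
  by_contra h
  obtain ⟨p, hp, hd⟩ := Nat.exists_prime_and_dvd (fun e => h (orderOf_eq_one_iff.1 e))
  exact hx p hp hd (hH p hp (hd.trans (orderOf_dvd_natCard H hxH)))

/-- A `π'`-element normalising a `π`-subgroup centralises it. -/
theorem Homog.mem_centralizer (h : Homog π G) {H : Subgroup G} (hH : IsPi π H) {x : G}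
    (hxN : x ∈ normalizer (H : Set G)) (hx : IsPiPrime π x) : x ∈ centralizer (H : Set G) := by
  by_cases hH1 : H = ⊥
  · subst hH1
    exact mem_centralizer_iff.2 fun a ha => by rw [Subgroup.mem_bot.1 ha, one_mul, mul_one]
  set C := centralizer (H : Set G)
  set N := normalizer (H : Set G)
  have h1 : (⟨x, hxN⟩ : N) ^ (C.subgroupOf N).index ∈ C.subgroupOf N := pow_index_mem _ _
  have hcop : (orderOf x).Coprime (C.subgroupOf N).index :=
    Nat.coprime_of_dvd fun p hp ha hb => hx p hp ha (h H hH1 hH p hp hb)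
  obtain ⟨m, hm⟩ := exists_pow_eq_self_of_coprime hcop.symm
  exact hm ▸ pow_mem (mem_subgroupOf.1 h1) m

theorem Hyp.subgroup (h : Hyp π G) (U : Subgroup G) : Hyp π ↥U := by
  refine ⟨h.two, fun H hH P => ?_, fun H hH1 hH p hp hd => ?_⟩
  · haveI : Fact (Nat.Prime 2) := ⟨Nat.prime_two⟩
    let e := H.equivMapOfInjective U.subtype U.subtype_injective
    have hn := h.closed (H.map U.subtype)
      (fun q hq hd => hH q hq (by rwa [card_map_of_injective U.subtype_injective] at hd))
      (P.mapSurjective (f := e.toMonoidHom) e.surjective)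
    exact ⟨fun a ha g => by
      obtain ⟨b, hb, hbe⟩ := hn.conj_mem (e a) ⟨a, ha, rfl⟩ (e g)
      have : b = g * a * g⁻¹ := e.injective (by simpa using hbe)
      exact this ▸ hb⟩
  · refine h.homog (H.map U.subtype) (fun e => hH1 ((map_eq_bot_iff_of_injective H U.subtype_injective).1 e))
      (fun q hq hd => hH q hq (by rwa [card_map_of_injective U.subtype_injective] at hd)) p hp ?_
    refine hd.trans ?_
    set C' := centralizer ((H.map U.subtype : Subgroup G) : Set G)
    set N' := normalizer ((H.map U.subtype : Subgroup G) : Set G)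
    haveI : (C'.subgroupOf N').Normal := normal_subgroupOf_centralizer_normalizer _
    have hle : (normalizer (H : Set U)).map U.subtype ≤ N' := by
      rintro _ ⟨n, hn, rfl⟩
      refine mem_normalizer_iff.2 fun y => ⟨?_, ?_⟩
      · rintro ⟨a, ha, rfl⟩
        exact ⟨n * a * n⁻¹, (mem_normalizer_iff.1 hn a).1 ha, by simp⟩
      · rintro ⟨a, ha, hay⟩
        refine ⟨n⁻¹ * a * n, (mem_normalizer_iff.1 hn _).2 (by simpa [mul_assoc] using ha), ?_⟩
        simp only [map_mul, map_inv, hay]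
        group
    have hC : C'.comap U.subtype = centralizer (H : Set U) := by
      ext y
      simp only [C', mem_comap, mem_centralizer_iff, coe_map, Set.mem_image, SetLike.mem_coe]
      refine ⟨fun hy a ha => Subtype.ext (hy _ ⟨a, ha, rfl⟩), ?_⟩
      rintro hy _ ⟨a, ha, rfl⟩
      exact congrArg Subtype.val (hy a ha)
    have he : (centralizer (H : Set U)).relIndex (normalizer (H : Set U)) =
        C'.relIndex ((normalizer (H : Set U)).map U.subtype) := by rw [← hC, relIndex_comap]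
    rw [he, ← relIndex_subgroupOf hle]
    exact relIndex_dvd_index_of_normal (C'.subgroupOf N') _

/-- No involution inverts an element of odd prime order in `π`. -/
theorem Hyp.no_dihedral (h : Hyp π G) {u x : G} {r : ℕ} (hu : orderOf u = 2) (hr : r.Prime) (hr2 : r ≠ 2)
    (hx : orderOf x = r) (hrπ : r ∈ π) (hinv : u * x * u⁻¹ = x⁻¹) : False := by
  haveI : Fact (Nat.Prime 2) := ⟨Nat.prime_two⟩
  set H := zpowers x ⊔ zpowers u
  have hu2 : u ^ 2 = 1 := hu ▸ pow_orderOf_eq_one u
  have huv : u⁻¹ = u := inv_eq_of_mul_eq_one_right (by rw [← sq, hu2])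
  have hn : zpowers u ≤ normalizer (zpowers x : Set G) := zpowers_le.2 <| mem_normalizer_iff.2 fun y => by
    have key : ∀ z ∈ zpowers x, u * z * u⁻¹ ∈ zpowers x := by
      rintro z ⟨k, rfl⟩
      simp only
      rw [← conj_zpow, hinv]
      exact zpow_mem (inv_mem (mem_zpowers x)) k
    refine ⟨key y, fun hy => ?_⟩
    have := key _ hy
    rw [huv] at this
    simpa [← mul_assoc, ← sq, hu2, mul_assoc y u u] using this
  have hd : Disjoint (zpowers x) (zpowers u) := disjoint_iff.2 (eq_bot_of_card_eq _ (Nat.eq_one_of_dvd_coprimes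
    (show (Nat.card (zpowers x)).Coprime (Nat.card (zpowers u)) by
      rw [Nat.card_zpowers, Nat.card_zpowers, hx, hu]; exact (Nat.coprime_primes hr Nat.prime_two).2 hr2)
    (card_dvd_of_le inf_le_left) (card_dvd_of_le inf_le_right)))
  have hc : Nat.card H = r * 2 := by
    rw [JComp.card_sup_of_disjoint_normalizer hn hd, Nat.card_zpowers, Nat.card_zpowers, hx, hu]
  have huH : u ∈ H := mem_sup_right (mem_zpowers u)
  have hxH : x ∈ H := mem_sup_left (mem_zpowers x)
  obtain ⟨P, hP⟩ := (IsPGroup.of_card (n := 1) (by rw [Nat.card_zpowers, orderOf_mk, hu, pow_one]) :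
    IsPGroup 2 (zpowers (⟨u, huH⟩ : H))).exists_le_sylow
  haveI := h.closed H (fun p hp hd => by
    rw [hc] at hd
    rcases hp.dvd_mul.1 hd with e | e
    · exact (Nat.prime_dvd_prime_iff_eq hp hr).1 e ▸ hrπ
    · exact (Nat.prime_dvd_prime_iff_eq hp Nat.prime_two).1 e ▸ h.two) P
  have h1 : (⟨x, hxH⟩ : H) * ⟨u, huH⟩ * ⟨x, hxH⟩⁻¹ * ⟨u, huH⟩ ∈ (P : Subgroup H) :=
    mul_mem (Normal.conj_mem inferInstance _ (hP (mem_zpowers _)) _) (hP (mem_zpowers _))
  obtain ⟨k, hk⟩ := P.isPGroup' ⟨_, h1⟩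
  have hk' : (x * u * x⁻¹ * u) ^ 2 ^ k = 1 := congrArg (fun w => ((Subtype.val w : H) : G)) hk
  have h2 : x * u * x⁻¹ * u = x ^ 2 := by
    have e2 : u * x⁻¹ * u = x := by
      have := congrArg (·⁻¹) hinv
      simpa [huv, mul_assoc] using this
    rw [mul_assoc, mul_assoc, ← mul_assoc u, e2, sq]
  rw [h2, ← pow_mul, ← orderOf_dvd_iff_pow_eq_one, hx, ← pow_succ'] at hk'
  exact hr2 ((Nat.prime_dvd_prime_iff_eq hr Nat.prime_two).1 (hr.dvd_of_dvd_pow hk'))

end Cfsg.Agent.PiHomog
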