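/-
Groups with 2-closed pi-subgroups that are pi-homogeneous: reduction to the simple case.

Main results (namespace `Cfsg.Agent.PiHomog`):
* `homog_of_split` : the trivial direction;
* `Hyp.quotient` : the hypotheses pass to quotients by normal subgroups that are `π` or `π'`;
* `split_of_simple` : the theorem follows from the case of a nonabelian simple group.
-/
import Cfsg.Agent.Lib.PiHomog.Basic
import Cfsg.Agent.Lib.Solvable.SchurZassenhaus
import Cfsg.Agent.Lib.OddOrderTheorem.Basic

set_option autoImplicit false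
set_option linter.unusedSectionVars false
set_option linter.style.haveILetI false

namespace Cfsg.Agent.PiHomog

open Subgroup
open scoped Pointwise

universe u

variable {π : Set ℕ} {G : Type u} [Group G] [Finite G]

omit [Finite G] in
theorem split_normal {K : Subgroup G} (hK : ∀ x : G, x ∈ K ↔ IsPiPrime π x) : K.Normal :=
  ⟨fun x hx g => (hK _).2 (by
    unfold IsPiPrime
    rw [show orderOf (g * x * g⁻¹) = orderOf x from orderOf_injective (MulAut.conj g).toMonoidHom (MulAut.conj g).injective x]
    exact (hK x).1 hx)⟩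

/-- **The trivial direction.** -/
theorem homog_of_split (h : Split π G) : Homog π G := by
  obtain ⟨K, hK⟩ := h
  haveI := split_normal (π := π) hK
  intro H hH1 hH p hp hd
  by_contra hpi
  haveI : Fact p.Prime := ⟨hp⟩
  set N := normalizer (H : Set G)
  set C := centralizer (H : Set G)
  obtain ⟨P⟩ : Nonempty (Sylow p ↥N) := inferInstance
  refine P.not_dvd_index (hd.trans (Subgroup.index_dvd_of_le fun x hx => mem_subgroupOf.2 ?_))
  obtain ⟨k, hk⟩ := P.isPGroup' ⟨x, hx⟩
  have hxK : (x : G) ∈ K := (hK _).2 fun q hq hqd => by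
    have hord : orderOf (x : G) ∣ p ^ k :=
      orderOf_dvd_of_pow_eq_one (congrArg (fun w => ((Subtype.val w : ↥N) : G)) hk)
    exact (Nat.prime_dvd_prime_iff_eq hq hp).1 (hq.dvd_of_dvd_pow (hqd.trans hord)) ▸ hpi
  refine mem_centralizer_iff.2 fun a ha => ?_
  have hc1 : a * (x : G) * a⁻¹ * (x : G)⁻¹ ∈ K :=
    mul_mem (Normal.conj_mem inferInstance _ hxK a) (inv_mem hxK)
  have hc2 : a * (x : G) * a⁻¹ * (x : G)⁻¹ ∈ H := by
    have e : a * (x : G) * a⁻¹ * (x : G)⁻¹ = a * ((x : G) * a⁻¹ * (x : G)⁻¹) := by group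
    exact e ▸ mul_mem ha ((mem_normalizer_iff.1 x.2 _).1 (inv_mem ha))
  have := IsPiPrime.eq_one (π := π) hH ((hK _).1 hc1) hc2
  exact mul_inv_eq_iff_eq_mul.1 (mul_inv_eq_one.1 this)

/-- The image of a conjugate element. -/
theorem map_mem_centralizer {G' : Type*} [Group G'] (f : G →* G') {H : Subgroup G} {n : G}
    (hn : n ∈ centralizer (H : Set G)) : f n ∈ centralizer ((H.map f : Subgroup G') : Set G') :=
  mem_centralizer_iff.2 fun y hy => by
    obtain ⟨a, ha, rfl⟩ := hy
    rw [← map_mul, mem_centralizer_iff.1 hn a ha, map_mul]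

/-- The hypotheses pass to quotients by normal `π`- or `π'`-subgroups. -/
theorem Hyp.quotient (h : Hyp π G) (N : Subgroup G) [N.Normal]
    (hN : IsPi π N ∨ ∀ x ∈ N, IsPiPrime π x) : Hyp π (G ⧸ N) := by
  haveI : Fact (Nat.Prime 2) := ⟨Nat.prime_two⟩
  set f := QuotientGroup.mk' N with hf
  have hfs : Function.Surjective f := QuotientGroup.mk'_surjective N
  -- a `π`-subgroup above a given one, together with its normaliser
  have hlift : ∀ H : Subgroup (G ⧸ N), IsPi π H → ∃ L : Subgroup G, IsPi π L ∧ L.map f = H ∧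
      normalizer (H : Set (G ⧸ N)) ≤ (normalizer (L : Set G)).map f := by
    intro H hH
    have hmc : (H.comap f).map f = H := map_comap_eq_self_of_surjective hfs H
    have hnorm : ∀ {g : G}, f g ∈ normalizer (H : Set (G ⧸ N)) → g ∈ normalizer (H.comap f : Set G) := fun hg =>
      mem_normalizer_iff.2 fun a => by
        rw [mem_comap, mem_comap, map_mul, map_mul, map_inv]
        exact mem_normalizer_iff.1 hg (f a)
    have hdvd : Nat.card (H.comap f) = Nat.card N * Nat.card H := by
      have h1 := Subgroup.card_mul_index (N.subgroupOf (H.comap f))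
      have h2 : Nat.card (N.subgroupOf (H.comap f)) = Nat.card N :=
        Nat.card_congr (subgroupOfEquivOfLe fun x hx => by
          rw [mem_comap, show f x = 1 from (QuotientGroup.eq_one_iff x).2 hx]; exact one_mem H).toEquiv
      rw [h2] at h1
      rw [← h1]
      congr 1
      show N.relIndex (H.comap f) = _
      have h3 := relIndex_comap (⊥ : Subgroup (G ⧸ N)) f (H.comap f)
      rwa [MonoidHom.comap_bot, QuotientGroup.ker_mk', hmc, relIndex_bot_left] at h3
    rcases hN with hN | hN
    · refine ⟨H.comap f, fun p hp hd => ?_, hmc, fun y hy => ?_⟩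
      · rw [hdvd] at hd
        exact (hp.dvd_mul.1 hd).elim (hN p hp) (hH p hp)
      · obtain ⟨g, rfl⟩ := hfs y
        exact ⟨g, hnorm hy, rfl⟩
    · have hNle : N ≤ H.comap f := fun x hx => by
        rw [mem_comap, show f x = 1 from (QuotientGroup.eq_one_iff x).2 hx]; exact one_mem H
      have hidx : (N.subgroupOf (H.comap f)).index = Nat.card H := by
        have h1 := Subgroup.card_mul_index (N.subgroupOf (H.comap f))
        rw [Nat.card_congr (subgroupOfEquivOfLe hNle).toEquiv, hdvd] at h1
        exact Nat.eq_of_mul_eq_mul_left Nat.card_pos h1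
      have hcop : (Nat.card (N.subgroupOf (H.comap f))).Coprime (N.subgroupOf (H.comap f)).index := by
        rw [Nat.card_congr (subgroupOfEquivOfLe hNle).toEquiv, hidx]
        exact Nat.coprime_of_dvd fun p hp h1 h2 => not_dvd_card_of_piPrime hN hp (hH p hp h2) h1
      obtain ⟨L', hL'⟩ := exists_right_complement'_of_coprime hcop
      set L := L'.map (H.comap f).subtype
      have hcard : Nat.card L = Nat.card H := by
        rw [card_map_of_injective (H.comap f).subtype_injective, ← hL'.symm.index_eq_card, hidx]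
      have hsup : L ⊔ N = H.comap f := by
        have h1 := congrArg (Subgroup.map (H.comap f).subtype) hL'.symm.sup_eq_top
        rwa [Subgroup.map_sup, subgroupOf_map_subtype, inf_eq_left.2 hNle, ← MonoidHom.range_eq_map, range_subtype] at h1
      have hmap : L.map f = H := by
        have h1 := congrArg (Subgroup.map f) hsup
        rwa [Subgroup.map_sup, hmc, (map_eq_bot_iff N).2 (QuotientGroup.ker_mk' N).ge, sup_bot_eq] at h1
      have hLN : ∀ {L'' : Subgroup G}, Nat.card L'' = Nat.card H → (Nat.card L'').Coprime (Nat.card N) := fun e =>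
        Nat.coprime_of_dvd fun p hp h1 h2 => not_dvd_card_of_piPrime hN hp (hH p hp (e ▸ h1)) h2
      haveI : Group.IsSolvable N := OddOrderTheorem.solvable (odd_card_of_piPrime h.two hN)
      refine ⟨L, fun p hp hd => hH p hp (hcard ▸ hd), hmap, fun y hy => ?_⟩
      obtain ⟨g, rfl⟩ := hfs y
      have hsup' : L.map (MulAut.conj g).toMonoidHom ⊔ N = L ⊔ N := by
        have h2 : (L ⊔ N).map (MulAut.conj g).toMonoidHom = L ⊔ N := by
          rw [hsup]
          ext a
          refine ⟨?_, fun ha => ⟨g⁻¹ * a * g, ?_, by simp [mul_assoc]⟩⟩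
          · rintro ⟨b, hb, rfl⟩
            exact (mem_normalizer_iff.1 (hnorm hy) b).1 hb
          · exact (mem_normalizer_iff.1 (hnorm hy) _).2 (by simpa [mul_assoc] using ha)
        have h3 : N.map (MulAut.conj g).toMonoidHom = N := by
          ext a
          refine ⟨?_, fun ha => ⟨g⁻¹ * a * g, ?_, by simp [mul_assoc]⟩⟩
          · rintro ⟨b, hb, rfl⟩
            exact Normal.conj_mem inferInstance b hb g
          · simpa using Normal.conj_mem (H := N) inferInstance a ha g⁻¹
        rwa [Subgroup.map_sup, h3] at h2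
      obtain ⟨n, hn, hnL⟩ := Solvable.exists_conj_of_sup_eq (Or.inl inferInstance) hsup'
        (hLN (by rw [card_map_of_injective (MulAut.conj g).injective, hcard])) (hLN hcard)
      refine ⟨n * g, Signalizer.mem_normalizer_of_conj_mem fun a ha => ?_, ?_⟩
      · refine hnL.le ⟨g * a * g⁻¹, ⟨a, ha, rfl⟩, ?_⟩
        show n * (g * a * g⁻¹) * n⁻¹ = _
        group
      · rw [map_mul, show f n = 1 from (QuotientGroup.eq_one_iff n).2 hn, one_mul]
  refine ⟨h.two, fun H hH P => ?_, fun H hH1 hH p hp hd => ?_⟩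
  · obtain ⟨L, hL, hLH, -⟩ := hlift H hH
    subst hLH
    obtain ⟨Q⟩ : Nonempty (Sylow 2 ↥L) := inferInstance
    haveI := h.closed L hL Q
    set Q' := Q.mapSurjective (f.subgroupMap_surjective L)
    haveI : (Q' : Subgroup ↥(L.map f)).Normal := Normal.map inferInstance _ (f.subgroupMap_surjective L)
    haveI := Sylow.unique_of_normal Q' inferInstance
    exact (Subsingleton.elim Q' P) ▸ inferInstance
  · obtain ⟨L, hL, hLH, hLN⟩ := hlift H hH
    have hL1 : L ≠ ⊥ := fun e => hH1 (by rw [← hLH, e, Subgroup.map_bot])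
    refine h.homog L hL1 hL p hp (hd.trans ?_)
    rw [show normalizer (H : Set (G ⧸ N)) = (normalizer (L : Set G)).map f from
      le_antisymm hLN (hLH ▸ le_normalizer_map f)]
    rw [← relIndex_comap]
    exact relIndex_dvd_of_le_left _ fun n hn => mem_comap.2 (hLH ▸ map_mem_centralizer f hn)

/-- **The reduction to simple groups.** -/
theorem split_of_simple (hsimple : ∀ (G : Type u) [Group G] [Finite G] [IsSimpleGroup G], ¬ IsMulCommutative G →
      Hyp π G → (∀ U : Subgroup G, U ≠ ⊤ → Split π ↥U) → False) (n : ℕ) :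
    ∀ (G : Type u) [Group G] [Finite G], Nat.card G = n → Hyp π G → Split π G := by
  induction n using Nat.strong_induction_on with
  | _ n ih =>
  intro G _ _ hn h
  have hsub : ∀ U : Subgroup G, U ≠ ⊤ → Split π ↥U := fun U hU =>
    ih _ (hn ▸ lt_of_le_of_ne (card_le_card_group U) fun e => hU (eq_top_of_card_eq U e)) ↥U rfl (h.subgroup U)
  -- a normal subgroup of `π'`-elements may be factored out
  have hquot : ∀ (M : Subgroup G) [M.Normal], M ≠ ⊥ → Hyp π (G ⧸ M) → Split π (G ⧸ M) := by
    intro M _ h1 h2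
    refine ih _ (hn ▸ ?_) (G ⧸ M) rfl h2
    rw [Subgroup.card_eq_card_quotient_mul_card_subgroup M]
    exact lt_mul_of_one_lt_right Nat.card_pos (Finite.one_lt_card_iff_nontrivial.2
      ((Subgroup.nontrivial_iff_ne_bot M).2 h1))
  by_cases hG : ∀ N : Subgroup G, N.Normal → N = ⊥ ∨ N = ⊤
  · by_cases hna : IsMulCommutative G
    · let K : Subgroup G :=
        { carrier := {x | IsPiPrime π x}
          one_mem' := fun p hp hd => absurd (orderOf_one (G := G) ▸ hd) hp.not_dvd_one
          mul_mem' := fun {a b} ha hb p hp hd => by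
            have := (show Commute a b from hna.is_comm.comm a b).orderOf_mul_dvd_mul_orderOf
            exact (hp.dvd_mul.1 (hd.trans this)).elim (ha p hp) (hb p hp)
          inv_mem' := fun {a} ha => by
            show IsPiPrime π a⁻¹
            unfold IsPiPrime
            rw [orderOf_inv]
            exact ha }
      exact ⟨K, fun _ => Iff.rfl⟩
    · haveI : Nontrivial G := not_subsingleton_iff_nontrivial.1 fun hs =>
        hna ⟨⟨fun a b => Subsingleton.elim _ _⟩⟩
      haveI : IsSimpleGroup G := { eq_bot_or_eq_top_of_normal := hG }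
      exact (hsimple G hna h hsub).elim
  push Not at hG
  obtain ⟨M, hM, hM1, hM2⟩ := hG
  haveI := hM
  obtain ⟨K₀, hK₀⟩ := hsub M hM2
  set K := K₀.map M.subtype with hKdef
  have hK : ∀ x : G, x ∈ K ↔ x ∈ M ∧ IsPiPrime π x := by
    intro x
    constructor
    · rintro ⟨y, hy, rfl⟩
      exact ⟨y.2, fun p hp hd => (hK₀ y).1 hy p hp (orderOf_coe y ▸ hd)⟩
    · rintro ⟨hxM, hx⟩
      exact ⟨⟨x, hxM⟩, (hK₀ _).2 fun p hp hd => hx p hp (by rwa [orderOf_mk] at hd), rfl⟩
  haveI hKn : K.Normal := ⟨fun x hx g => (hK _).2 ⟨hM.conj_mem x ((hK x).1 hx).1 g, by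
    unfold IsPiPrime
    rw [show orderOf (g * x * g⁻¹) = orderOf x from orderOf_injective (MulAut.conj g).toMonoidHom (MulAut.conj g).injective x]
    exact ((hK x).1 hx).2⟩⟩
  by_cases hK1 : K = ⊥
  · have hMπ : IsPi π M := fun p hp hd => by
      by_contra hpi
      haveI : Fact p.Prime := ⟨hp⟩
      obtain ⟨y, hy⟩ := exists_prime_orderOf_dvd_card' (G := M) p hd
      have : (y : G) ∈ K := (hK _).2 ⟨y.2, fun q hq hqd => by
        rw [orderOf_coe, hy] at hqd
        exact (Nat.prime_dvd_prime_iff_eq hq hp).1 hqd ▸ hpi⟩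
      rw [hK1, Subgroup.mem_bot] at this
      rw [← orderOf_coe, this, orderOf_one] at hy
      exact hp.ne_one hy.symm
    set R := Subgroup.closure {x : G | IsPiPrime π x}
    by_cases hR : R = ⊤
    · have hcen : ∀ x : G, x ∈ centralizer (M : Set G) := fun x => by
        refine (show R ≤ centralizer (M : Set G) from (closure_le _).2 fun y hy => ?_) (hR ▸ mem_top x)
        exact h.homog.mem_centralizer hMπ (normalizer_eq_top_iff.2 hM ▸ mem_top y) hy
      obtain ⟨Kq, hKq⟩ := hquot M hM1 (h.quotient M (Or.inl hMπ))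
      set L := Kq.comap (QuotientGroup.mk' M) with hLdef
      have hall : ∀ x : G, IsPiPrime π x → x ∈ L := fun x hx => mem_comap.2 <| (hKq _).2 fun p hp hd =>
        hx p hp (hd.trans (orderOf_map_dvd _ x))
      have hL : L = ⊤ := eq_top_iff.2 (hR ▸ (closure_le _).2 hall)
      have hq : ∀ p : ℕ, p.Prime → p ∣ Nat.card (G ⧸ M) → p ∉ π := fun p hp hd => by
        haveI : Fact p.Prime := ⟨hp⟩
        obtain ⟨y, hy⟩ := exists_prime_orderOf_dvd_card' (G := G ⧸ M) p hd
        obtain ⟨x, rfl⟩ := QuotientGroup.mk'_surjective M y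
        exact (hKq _).1 (mem_comap.1 (hL ▸ mem_top x)) p hp (by rw [hy])
      obtain ⟨H, hH⟩ := exists_right_complement'_of_coprime (N := M)
        (Nat.coprime_of_dvd fun p hp h1 h2 => hq p hp h2 (hMπ p hp h1))
      have hHcard : Nat.card H = Nat.card (G ⧸ M) := hH.symm.index_eq_card.symm
      refine ⟨H, fun x => ⟨fun hx p hp hd => hq p hp (hHcard ▸ hd.trans (orderOf_dvd_natCard H hx)), fun hx => ?_⟩⟩
      obtain ⟨⟨m, y⟩, rfl⟩ := hH.2 x
      have hc : Commute (m : G) (y : G) := mem_centralizer_iff.1 (hcen y) m m.2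
      have hy : ((y : G)) ^ Nat.card H = 1 := by rw [← SubmonoidClass.coe_pow, pow_card_eq_one', OneMemClass.coe_one]
      suffices (m : G) = 1 by show (m : G) * y ∈ H; rw [this, one_mul]; exact y.2
      have hm : ((m : G) * y) ^ Nat.card H ∈ M := by rw [hc.mul_pow, hy, mul_one]; exact pow_mem m.2 _
      have h1 : ((m : G) * y) ^ Nat.card H = 1 := IsPiPrime.eq_one hMπ
        (fun p hp hd => hx p hp (hd.trans (orderOf_pow_dvd _))) hm
      rw [hc.mul_pow, hy, mul_one] at h1
      exact orderOf_eq_one_iff.1 (Nat.eq_one_of_dvd_coprimes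
        (Nat.coprime_of_dvd fun p hp h1 h2 => hq p hp (hHcard ▸ h2) (hMπ p hp h1))
        (orderOf_dvd_natCard M m.2) (orderOf_dvd_of_pow_eq_one h1))
    · obtain ⟨K', hK'⟩ := hsub R hR
      refine ⟨K'.map R.subtype, fun x => ⟨?_, fun hx => ?_⟩⟩
      · rintro ⟨y, hy, rfl⟩ p hp hd
        exact (hK' y).1 hy p hp (orderOf_coe y ▸ hd)
      · exact ⟨⟨x, subset_closure hx⟩, (hK' _).2 fun p hp hd => hx p hp (by rwa [orderOf_mk] at hd), rfl⟩
  · obtain ⟨Kq, hKq⟩ := hquot K hK1 (h.quotient K (Or.inr fun x hx => ((hK x).1 hx).2))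
    refine ⟨Kq.comap (QuotientGroup.mk' K), fun x => ⟨fun hx p hp hd => ?_, fun hx => ?_⟩⟩
    · have hxm : x ^ orderOf (QuotientGroup.mk' K x) ∈ K := by
        rw [← QuotientGroup.eq_one_iff, QuotientGroup.mk_pow]
        exact pow_orderOf_eq_one _
      have hd' : orderOf x ∣ orderOf (QuotientGroup.mk' K x) * orderOf (x ^ orderOf (QuotientGroup.mk' K x)) :=
        orderOf_dvd_of_pow_eq_one (by rw [pow_mul, pow_orderOf_eq_one])
      exact (hp.dvd_mul.1 (hd.trans hd')).elim ((hKq _).1 (mem_comap.1 hx) p hp) (((hK _).1 hxm).2 p hp)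
    · exact mem_comap.2 <| (hKq _).2 fun p hp hd => hx p hp (hd.trans (orderOf_map_dvd _ x))

end Cfsg.Agent.PiHomog
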