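/-
A minimal counterexample to the splitting theorem for pi-homogeneous groups.

Main results (namespace `Cfsg.Agent.PiHomog`):
* `solvable_of_split` : groups satisfying the hypotheses and the conclusion are soluble;
* `Min.sFourFree` : the symmetric group of degree four is not involved;
* `Min.not_stronglyEmbedded` : there is no strongly embedded subgroup.
-/
import Cfsg.Agent.Lib.PiHomog.Reduce
import Cfsg.Agent.Lib.ZStar.Glauberman
import Cfsg.Agent.Lib.ZStar.Unique
import Cfsg.Agent.Lib.Involution.StronglyEmbedded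
import Cfsg.Agent.S1221
import Mathlib.GroupTheory.Perm.Sign

set_option autoImplicit false
set_option linter.unusedSectionVars false
set_option linter.style.haveILetI false

namespace Cfsg.Agent.PiHomog

open Subgroup

universe u

variable {π : Set ℕ}

/-- A minimal simple counterexample. -/
structure Min (π : Set ℕ) (G : Type u) [Group G] : Prop where
  hyp : Hyp π G
  split : ∀ U : Subgroup G, U ≠ ⊤ → Split π ↥U
  simple : IsSimpleGroup G
  nonab : ¬ IsMulCommutative G

section
variable {U : Type u} [Group U] [Finite U]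

theorem index_isPi {K : Subgroup U} (hK : ∀ x : U, x ∈ K ↔ IsPiPrime π x) {p : ℕ} (hp : p.Prime)
    (hd : p ∣ K.index) : p ∈ π := by
  by_contra hpi
  haveI : Fact p.Prime := ⟨hp⟩
  obtain ⟨P⟩ : Nonempty (Sylow p U) := inferInstance
  refine P.not_dvd_index (hd.trans (Subgroup.index_dvd_of_le fun x hx => (hK x).2 fun q hq hqd => ?_))
  obtain ⟨k, hk⟩ := P.isPGroup' ⟨x, hx⟩
  have hord : orderOf x ∣ p ^ k := orderOf_dvd_of_pow_eq_one (congrArg Subtype.val hk)
  exact (Nat.prime_dvd_prime_iff_eq hq hp).1 (hq.dvd_of_dvd_pow (hqd.trans hord)) ▸ hpi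

/-- A `π`-subgroup complementing the subgroup of `π'`-elements. -/
theorem exists_complement (h : Hyp π U) {K : Subgroup U} (hK : ∀ x : U, x ∈ K ↔ IsPiPrime π x) :
    ∃ H : Subgroup U, K.IsComplement' H ∧ IsPi π H := by
  haveI := split_normal hK
  have hcop : (Nat.card K).Coprime K.index := Nat.coprime_of_dvd fun p hp h1 h2 =>
    not_dvd_card_of_piPrime (fun x hx => (hK x).1 hx) hp (index_isPi hK hp h2) h1
  obtain ⟨H, hH⟩ := exists_right_complement'_of_coprime hcop
  exact ⟨H, hH, fun p hp hd => index_isPi hK hp (hH.symm.index_eq_card ▸ hd)⟩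

/-- A group with the hypotheses and the conclusion is soluble. -/
theorem solvable_of_split (h : Hyp π U) (hs : Split π U) : Group.IsSolvable U := by
  haveI : Fact (Nat.Prime 2) := ⟨Nat.prime_two⟩
  obtain ⟨K, hK⟩ := hs
  haveI := split_normal (π := π) hK
  obtain ⟨H, hH, hHπ⟩ := exists_complement h hK
  haveI : Group.IsSolvable K :=
    OddOrderTheorem.solvable (odd_card_of_piPrime h.two fun x hx => (hK x).1 hx)
  obtain ⟨P⟩ : Nonempty (Sylow 2 ↥H) := inferInstance
  haveI := h.closed H hHπ P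
  haveI := P.isPGroup'.isNilpotent
  haveI : Group.IsSolvable (↥H ⧸ (P : Subgroup ↥H)) := OddOrderTheorem.solvable (by
    rw [← Subgroup.index_eq_card, Nat.odd_iff]
    have := P.not_dvd_index
    omega)
  haveI : Group.IsSolvable ↥H :=
    (Group.isSolvable_iff_subgroup_quotient (P : Subgroup ↥H)).2 ⟨inferInstance, inferInstance⟩
  haveI : Group.IsSolvable (U ⧸ K) :=
    Group.isSolvable_of_surjective (f := hH.symm.QuotientMulEquiv.symm.toMonoidHom)
      hH.symm.QuotientMulEquiv.symm.surjective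
  exact (Group.isSolvable_iff_subgroup_quotient K).2 ⟨inferInstance, inferInstance⟩

/-- Such a group does not map onto the symmetric group of degree four. -/
theorem no_perm_four (h : Hyp π U) (hs : Split π U) {f : U →* Equiv.Perm (Fin 4)}
    (hf : Function.Surjective f) : False := by
  haveI : Fact (Nat.Prime 2) := ⟨Nat.prime_two⟩
  obtain ⟨K, hK⟩ := hs
  haveI := split_normal (π := π) hK
  have hker : ∀ x ∈ K, f x = 1 := by
    intro x hx
    by_contra hne
    have hcube : ∀ z ∈ K, f z ^ 3 = 1 := fun z hz => by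
      have h1 : orderOf (f z) ∣ 2 ^ 3 * 3 := by
        have := orderOf_dvd_natCard (f z)
        rwa [Nat.card_perm, Nat.card_fin] at this
      have hodd : Odd (orderOf (f z)) :=
        Odd.of_dvd_nat (IsPiPrime.odd h.two ((hK z).1 hz)) (orderOf_map_dvd f z)
      exact orderOf_dvd_iff_pow_eq_one.1
        ((Nat.Coprime.pow_right 3 (Nat.coprime_two_right.2 hodd)).dvd_of_dvd_mul_left h1)
    obtain ⟨g, hg⟩ : ∃ g, (g * f x * g⁻¹ * (f x)⁻¹) ^ 3 ≠ 1 := by
      have key : ∀ y : Equiv.Perm (Fin 4), y ^ 3 = 1 → y ≠ 1 → ∃ g, (g * y * g⁻¹ * y⁻¹) ^ 3 ≠ 1 := by decide +kernel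
      exact key _ (hcube x hx) hne
    obtain ⟨a, rfl⟩ := hf g
    exact hg (by simpa using hcube _ (mul_mem (Normal.conj_mem inferInstance x hx a) (inv_mem hx)))
  obtain ⟨H, hH, hHπ⟩ := exists_complement h hK
  obtain ⟨P⟩ : Nonempty (Sylow 2 ↥H) := inferInstance
  haveI := h.closed H hHπ P
  haveI := Sylow.unique_of_normal P inferInstance
  set R := (P : Subgroup ↥H).map (f.comp H.subtype)
  have hR : IsPGroup 2 R := P.isPGroup'.map _
  have hinv : ∀ t : Equiv.Perm (Fin 4), orderOf t = 2 → t ∈ R := by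
    intro t ht
    obtain ⟨x, rfl⟩ := hf t
    obtain ⟨⟨k, y⟩, rfl⟩ := hH.2 x
    have hfy : f ((k : U) * y) = f (y : U) := by rw [map_mul, hker _ k.2, one_mul]
    rw [hfy] at ht ⊢
    set m := orderOf y / 2 ^ (orderOf y).factorization 2
    have hm : ¬ 2 ∣ m := Nat.not_dvd_ordCompl Nat.prime_two (orderOf_pos y).ne'
    have hyP : y ^ m ∈ P := by
      have h2 : IsPGroup 2 (zpowers (y ^ m)) := IsPGroup.of_card (n := (orderOf y).factorization 2) (by
        rw [Nat.card_zpowers, orderOf_pow_of_dvd (Nat.pos_iff_ne_zero.1 (Nat.ordCompl_pos 2 (orderOf_pos y).ne'))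
          (Nat.ordCompl_dvd _ 2), Nat.div_div_self (Nat.ordProj_dvd _ 2) (orderOf_pos y).ne'])
      obtain ⟨Q, hQ⟩ := h2.exists_le_sylow
      exact (Subsingleton.elim Q P) ▸ hQ (mem_zpowers _)
    refine ⟨_, hyP, ?_⟩
    show f (((y ^ m : ↥H)) : U) = f (y : U)
    rw [SubmonoidClass.coe_pow, map_pow, ← pow_mod_orderOf, ht,
      show m % 2 = 1 by omega, pow_one]
  have h01 := hinv (Equiv.swap 0 1) (orderOf_eq_prime (by decide) (by decide))
  have h12 := hinv (Equiv.swap 1 2) (orderOf_eq_prime (by decide) (by decide))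
  obtain ⟨k, hk⟩ := hR ⟨_, mul_mem h01 h12⟩
  have h3 : orderOf (Equiv.swap (0 : Fin 4) 1 * Equiv.swap 1 2) = 3 :=
    orderOf_eq_prime (hp := ⟨Nat.prime_three⟩) (by decide) (by decide)
  have := orderOf_dvd_of_pow_eq_one (congrArg Subtype.val hk)
  rw [h3] at this
  exact absurd (Nat.prime_three.dvd_of_dvd_pow this) (by norm_num)

end

section
variable {G : Type u} [Group G] [Finite G]

theorem Min.proper_solvable (h : Min π G) {U : Subgroup G} (hU : U ≠ ⊤) : Group.IsSolvable ↥U :=
  solvable_of_split (h.hyp.subgroup U) (h.split U hU)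

theorem Min.eq_bot_or_top (h : Min π G) (N : Subgroup G) (hN : N.Normal) : N = ⊥ ∨ N = ⊤ :=
  h.simple.eq_bot_or_eq_top_of_normal N hN

theorem Min.center_eq (h : Min π G) : center G = ⊥ :=
  (h.eq_bot_or_top _ inferInstance).resolve_right fun e =>
    h.nonab ⟨⟨fun a b => mem_center_iff.1 (e ▸ mem_top b) a⟩⟩

theorem Min.even (h : Min π G) : 2 ∣ Nat.card G := by
  by_contra h2
  haveI := OddOrderTheorem.solvable (G := G) (Nat.odd_iff.2 (by omega))
  haveI := h.simple
  exact h.nonab ⟨⟨IsSimpleGroup.comm_iff_isSolvable.2 inferInstance⟩⟩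

theorem Min.core_eq (h : Min π G) : Cfsg.pPrimeCore 2 G = ⊥ :=
  (h.eq_bot_or_top _ (Cores.pPrimeCore_normal 2 G)).resolve_right fun e => by
    haveI : Fact (Nat.Prime 2) := ⟨Nat.prime_two⟩
    have := Cores.not_dvd_card_pPrimeCore (p := 2) (G := G)
    rw [e, Subgroup.card_top] at this
    exact this h.even

theorem Min.centralizer_ne_top (h : Min π G) {v : G} (hv : v ≠ 1) : centralizer ({v} : Set G) ≠ ⊤ := fun e =>
  hv (Subgroup.mem_bot.1 (h.center_eq ▸ mem_center_iff.2 fun g =>
    mem_centralizer_singleton_iff.1 (e ▸ mem_top g : g ∈ centralizer ({v} : Set G))))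

theorem Min.centralizer_solvable (h : Min π G) {v : G} (hv : orderOf v = 2) :
    Group.IsSolvable ↥(centralizer ({v} : Set G)) :=
  h.proper_solvable (h.centralizer_ne_top fun e => by rw [e, orderOf_one] at hv; omega)

/-- The symmetric group of degree four is not involved. -/
theorem Min.sFourFree (h : Min π G) : ¬ Cfsg.Involves (Equiv.Perm (Fin 4)) G := by
  rintro ⟨U, R, hR, ⟨e⟩⟩
  have hf : Function.Surjective (e.toMonoidHom.comp (QuotientGroup.mk' (R.subgroupOf U))) :=
    e.surjective.comp (QuotientGroup.mk'_surjective _)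
  by_cases hU : U = ⊤
  · subst hU
    have hs : Function.Surjective ((Equiv.Perm.sign.comp
        (e.toMonoidHom.comp (QuotientGroup.mk' (R.subgroupOf ⊤)))).comp Subgroup.topEquiv.symm.toMonoidHom) :=
      ((Equiv.Perm.sign_surjective (Fin 4)).comp hf).comp Subgroup.topEquiv.symm.surjective
    generalize ((Equiv.Perm.sign.comp
      (e.toMonoidHom.comp (QuotientGroup.mk' (R.subgroupOf ⊤)))).comp Subgroup.topEquiv.symm.toMonoidHom) = g at hs
    rcases h.eq_bot_or_top g.ker inferInstance with h1 | h1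
    · exact h.nonab ⟨⟨fun a b => (MonoidHom.ker_eq_bot_iff g).1 h1 (by rw [map_mul, map_mul, mul_comm])⟩⟩
    · obtain ⟨a, ha⟩ := hs (-1)
      exact absurd ((MonoidHom.mem_ker.1 (h1 ▸ mem_top a : a ∈ g.ker)).symm.trans ha) (by decide)
  · exact no_perm_four (h.hyp.subgroup U) (h.split U hU) hf

/-- There is no strongly embedded subgroup. -/
theorem Min.not_stronglyEmbedded (h : Min π G) {M : Subgroup G} (hM : Cfsg.IsStronglyEmbedded M) : False := by
  classical
  haveI : Fact (Nat.Prime 2) := ⟨Nat.prime_two⟩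
  -- `M` is a `π`-group
  obtain ⟨K, hK⟩ := h.split M hM.1
  have hKn := split_normal (π := π) hK
  have hKle : K ≤ Cfsg.pPrimeCore 2 ↥M := Cores.le_pPrimeCore hKn
    (Nat.coprime_two_right.2 (odd_card_of_piPrime h.hyp.two fun x hx => (hK x).1 hx))
  have hcore : Cfsg.pPrimeCore 2 ↥M = ⊥ := by
    have h1 : (Cfsg.pPrimeCore 2 ↥M).map M.subtype ≤ ⊥ := (S1221.result M hM).trans h.core_eq.le
    exact (map_eq_bot_iff_of_injective _ M.subtype_injective).1 (le_bot_iff.1 h1)
  have hMπ : IsPi π M := fun p hp hd => by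
    by_contra hpi
    haveI : Fact p.Prime := ⟨hp⟩
    obtain ⟨y, hy⟩ := exists_prime_orderOf_dvd_card' (G := M) p hd
    have hyK : y ∈ K := (hK _).2 fun q hq hqd => by
      rw [hy] at hqd
      exact (Nat.prime_dvd_prime_iff_eq hq hp).1 hqd ▸ hpi
    have h1 := hKle hyK
    rw [hcore, Subgroup.mem_bot] at h1
    rw [h1, orderOf_one] at hy
    exact hp.ne_one hy.symm
  -- there are at least two involutions in `M`
  obtain ⟨t, htM, ht⟩ := Involution.exists_involution_mem hM.2.1
  by_cases huniq : ∀ s ∈ M, orderOf s = 2 → s = t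
  · have hiso : Cfsg.IsIsolatedInvolution t := ⟨ht, fun g hc =>
      huniq _ (Involution.centralizer_le hM ht htM (mem_centralizer_singleton_iff.2 hc.symm.eq))
        (by rw [Involution.orderOf_conj, ht])⟩
    refine h.centralizer_ne_top (v := t) (fun e => by rw [e, orderOf_one] at ht; omega)
      (eq_top_iff.2 fun g _ => mem_centralizer_singleton_iff.2 ?_)
    have := ZStar.zStar_of_brauerSuzuki ZStar.uniqueInvolution hiso g
    rw [h.core_eq, Subgroup.mem_bot, mul_inv_eq_one, mul_inv_eq_iff_eq_mul] at this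
    exact this.symm
  push Not at huniq
  obtain ⟨s, hsM, hs, hst⟩ := huniq
  obtain ⟨g, hg⟩ : ∃ g : G, g ∉ M := not_forall.1 fun e => hM.1 ((eq_top_iff' M).2 e)
  set x₀ : G ⧸ M := ((1 : G) : G ⧸ M)
  set y₀ : G ⧸ M := (g : G ⧸ M)
  have hxy : x₀ ≠ y₀ := fun e => hg (by simpa using QuotientGroup.eq.1 e)
  have h2 : 1 < Nat.card {i : G // orderOf i = 2 ∧ i • x₀ = y₀} := by
    rw [Involution.card_swapping hM hxy]
    exact Finite.one_lt_card_iff_nontrivial.2 ⟨⟨t, ht, htM⟩, ⟨s, hs, hsM⟩, fun e => hst (congrArg Subtype.val e).symm⟩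
  obtain ⟨⟨u, hu, hux⟩, ⟨w, hw, hwx⟩, huw⟩ := (Finite.one_lt_card_iff_nontrivial.1 h2).exists_pair_ne
  have hu1 : u * u = 1 := Involution.mul_self hu
  have hw1 : w * w = 1 := Involution.mul_self hw
  have huy : u • y₀ = x₀ := by rw [← hux, ← mul_smul, hu1, one_smul]
  have hwy : w • y₀ = x₀ := by rw [← hwx, ← mul_smul, hw1, one_smul]
  set x := u * w
  have hxx : x • x₀ = x₀ := by rw [mul_smul, hwx, huy]
  have hxy' : x • y₀ = y₀ := by rw [mul_smul, hwy, hux]
  have hx1 : x ≠ 1 := fun e => huw (Subtype.ext (mul_right_cancel (b := w) (e.trans hw1.symm)))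
  have hxM : x ∈ M := by
    have := (Involution.smul_mk_eq_iff x (1 : G)).1 hxx
    simpa using this
  have hpow : ∀ n : ℕ, x ^ n • x₀ = x₀ ∧ x ^ n • y₀ = y₀ := fun n => by
    induction n with
    | zero => simp
    | succ n ih => exact ⟨by rw [pow_succ, mul_smul, hxx, ih.1], by rw [pow_succ, mul_smul, hxy', ih.2]⟩
  have hxodd : ¬ 2 ∣ orderOf x := fun hd => by
    have ho : orderOf (x ^ (orderOf x / 2)) = 2 := by
      rw [orderOf_pow_of_dvd (Nat.div_pos (Nat.le_of_dvd (orderOf_pos x) hd) two_pos).ne' (Nat.div_dvd_of_dvd hd),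
        Nat.div_div_self hd (orderOf_pos x).ne']
    exact hxy (Involution.fixed_unique hM ho (hpow _).1 (hpow _).2)
  obtain ⟨r, hr, hrd⟩ := Nat.exists_prime_and_dvd (fun e => hx1 (orderOf_eq_one_iff.1 e) : orderOf x ≠ 1)
  have hr2 : r ≠ 2 := fun e => hxodd (e ▸ hrd)
  set n := orderOf x / r
  have hn : n ≠ 0 := (Nat.div_pos (Nat.le_of_dvd (orderOf_pos x) hrd) hr.pos).ne'
  have hord : orderOf (x ^ n) = r := by
    rw [orderOf_pow_of_dvd hn (Nat.div_dvd_of_dvd hrd), Nat.div_div_self hrd (orderOf_pos x).ne']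
  refine h.hyp.no_dihedral hu hr hr2 hord (hMπ r hr ?_) ?_
  · exact hord ▸ Subgroup.orderOf_dvd_natCard M (pow_mem hxM n)
  · rw [← conj_pow, ← inv_pow]
    congr 1
    rw [mul_inv_rev, inv_eq_of_mul_eq_one_right hu1, inv_eq_of_mul_eq_one_right hw1, ← mul_assoc, hu1, one_mul]

end

end Cfsg.Agent.PiHomog
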