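/-
A minimal counterexample to the splitting theorem for pi-homogeneous groups: the strongly closed subgroup.

Main results (namespace `Cfsg.Agent.PiHomog`):
* `Min.exists_closed` : a strongly closed elementary abelian subgroup containing a central involution;
* `Min.exists_moving` : its normalizer moves every central involution of `S` in it;
* `Min.card_eq_four`, `Min.central`, `Min.three_mem` : it is a central four-group and `3 ∈ π`;
* `Min.no_outer_involution` : it contains all involutions of `S`.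
-/
import Cfsg.Agent.Lib.PiHomog.Simple
import Cfsg.Agent.Lib.PPrimeNilpotent.Main

set_option autoImplicit false
set_option linter.unusedSectionVars false
set_option linter.style.haveILetI false

namespace Cfsg.Agent.PiHomog

open Subgroup
open scoped Pointwise

universe u

variable {π : Set ℕ}

/-- The subgroup generated by a Sylow 2-subgroup and the `π'`-elements is normal. -/
theorem sylow_sup_normal {U : Type u} [Group U] [Finite U] (h : Hyp π U) {K : Subgroup U}
    (hK : ∀ x : U, x ∈ K ↔ IsPiPrime π x) (S : Sylow 2 U) : ((S : Subgroup U) ⊔ K).Normal := by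
  haveI : Fact (Nat.Prime 2) := ⟨Nat.prime_two⟩
  haveI := split_normal (π := π) hK
  obtain ⟨H, hH, hHπ⟩ := exists_complement h hK
  obtain ⟨P⟩ : Nonempty (Sylow 2 ↥H) := inferInstance
  haveI := h.closed H hHπ P
  set e := hH.symm.QuotientMulEquiv.symm
  set T := P.mapSurjective (f := e.toMonoidHom) e.surjective
  haveI : (T : Subgroup (U ⧸ K)).Normal := Normal.map inferInstance _ e.surjective
  haveI := Sylow.unique_of_normal T inferInstance
  have hT : ((S.mapSurjective (QuotientGroup.mk'_surjective K) : Sylow 2 (U ⧸ K)) : Subgroup (U ⧸ K)).Normal :=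
    (Subsingleton.elim T (S.mapSurjective (QuotientGroup.mk'_surjective K))) ▸ inferInstance
  have hn := hT.comap (QuotientGroup.mk' K)
  rwa [Sylow.coe_mapSurjective, comap_map_eq, QuotientGroup.ker_mk'] at hn

variable {G : Type u} [Group G] [Finite G] {S : Sylow 2 G} {A : Subgroup G}

/-- The strongly closed subgroup. -/
theorem Min.exists_closed (h : Min π G) (S : Sylow 2 G) :
    ∃ A : Subgroup G, PPrimeNilpotent.Closed S A ∧
      ∃ z ∈ A, z ≠ 1 ∧ (S : Subgroup G) ≤ centralizer ({z} : Set G) := by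
  haveI : Fact (Nat.Prime 2) := ⟨Nat.prime_two⟩
  set N := normalizer (Cfsg.thompsonSubgroupOf 2 (S : Subgroup G) : Set G) with hN
  set A := (Subgroup.normalClosure (((Cfsg.omegaOne 2 ((S : Subgroup G) ⊓
    Subgroup.centralizer ((S : Subgroup G) : Set G))).subgroupOf N : Subgroup ↥N) : Set ↥N)).map N.subtype with hA
  have hfree := h.sFourFree
  have hset := SFourClosed.setting_normalClosure S hfree
    (SFourClosed.secBound_of_secComp hfree
      (PPrimeNilpotent.secComp_of_proper (fun _ => h.proper_solvable) h.eq_bot_or_top h.nonab)) hN hA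
  refine ⟨A, ⟨hset.hyp.elem, hset.hyp.le, fun x hx g hg =>
    SFourClosed.meet_normalizer_le hfree hset g ⟨AlperinFamily.conj_mem_cj g hx, hset.hyp.norm hg⟩⟩, ?_⟩
  obtain ⟨z, hz, hz1, hz2⟩ := PLocal.exists_central_of_order_p S.isPGroup' (S.ne_bot_of_dvd_card h.even)
  refine ⟨z, ?_, hz1, fun s hs =>
    mem_centralizer_singleton_iff.2 (mem_centralizer_iff.1 hz.2 s hs)⟩
  have hzN : z ∈ N := (Subgroup.le_normalizer.trans
    (PLocal.normalizer_le_normalizer_thompsonSubgroupOf _)) hz.1
  refine ⟨⟨z, hzN⟩, Subgroup.subset_normalClosure (Subgroup.mem_subgroupOf.2 ?_), rfl⟩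
  exact PLocal.mem_omegaOne hz hz2

theorem Min.normalizer_ne_top (h : Min π G) (hc : PPrimeNilpotent.Closed S A) {z : G} (hz : z ∈ A) (hz1 : z ≠ 1) :
    normalizer (A : Set G) ≠ ⊤ := fun e => by
  rcases h.eq_bot_or_top A (normalizer_eq_top_iff.1 e) with e1 | e1
  · exact hz1 (Subgroup.mem_bot.1 (e1 ▸ hz))
  · exact h.nonab ⟨⟨fun a b => Signalizer.commute_of_isMulCommutative hc.elem.1 (e1.ge (mem_top a)) (e1.ge (mem_top b))⟩⟩

/-- The normalizer of `A` moves a central involution of `S` in `A`. -/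
theorem Min.exists_moving (h : Min π G) (hc : PPrimeNilpotent.Closed S A) {z : G} (hz : z ∈ A) (hz1 : z ≠ 1) :
    ∃ n ∈ normalizer (A : Set G), n * z * n⁻¹ ≠ z := by
  haveI : Fact (Nat.Prime 2) := ⟨Nat.prime_two⟩
  by_contra hN
  push Not at hN
  have hzm : z ∈ (S : Subgroup G) := hc.le hz
  have hiso : Cfsg.IsIsolatedInvolution z :=
    ZStar.isolated_of_sylow S (hc.orderOf_eq hz hz1) hzm fun g hg => by
      obtain ⟨x, hx, hxe⟩ := S2791.exists_agree S hc.elem.1 hc.sc (Nat.card ↥(S : Subgroup G)) (zpowers z)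
        (by omega) (zpowers_le.2 hzm) g (by
          rw [Cfsg.Agent.WeaklyClosed.cj, MonoidHom.map_zpowers, zpowers_le]
          exact hg)
      rw [hxe z (mem_zpowers z), hN x hx]
  refine hz1 (Subgroup.mem_bot.1 (h.center_eq ▸ Subgroup.mem_center_iff.2 fun g => ?_))
  have := ZStar.zStar_of_brauerSuzuki ZStar.uniqueInvolution hiso g
  rw [h.core_eq, Subgroup.mem_bot, mul_inv_eq_one, mul_inv_eq_iff_eq_mul] at this
  exact this.symm

/-- `A` has order at least four, and is central in `S` if the order is four. -/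
theorem Min.card_ge (h : Min π G) (hc : PPrimeNilpotent.Closed S A) {z : G} (hz : z ∈ A) (hz1 : z ≠ 1)
    (hzS : (S : Subgroup G) ≤ centralizer ({z} : Set G)) :
    4 ≤ Nat.card A ∧ (Nat.card A ≤ 4 → (S : Subgroup G) ≤ centralizer (A : Set G)) := by
  haveI : Fact (Nat.Prime 2) := ⟨Nat.prime_two⟩
  set N := normalizer (A : Set G) with hNdef
  obtain ⟨n, hn, hne⟩ := h.exists_moving hc hz hz1
  set w := n * z * n⁻¹
  have hw : w ∈ A := (mem_normalizer_iff.1 hn z).1 hz
  have hw1 : w ≠ 1 := fun e => hz1 (conj_eq_one_iff.1 e)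
  -- the conjugates of `S` in `N(A)` fix `z`
  have hfix : ∀ s ∈ (S : Subgroup G), n⁻¹ * s * n ∈ centralizer ({z} : Set G) := by
    intro s hs
    have hU := h.normalizer_ne_top hc hz hz1
    obtain ⟨K, hK⟩ := h.split N hU
    have hA2 : IsPi π A := isPi_of_isPGroup h.hyp.two (Signalizer.isPGroup_of_elemAb hc.elem)
    have hKC : K.map N.subtype ≤ centralizer ({z} : Set G) := by
      rintro _ ⟨k, hk, rfl⟩
      exact mem_centralizer_singleton_iff.2 (mem_centralizer_iff.1 (h.hyp.homog.mem_centralizer hA2 k.2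
        fun p hp hd => (hK k).1 hk p hp (orderOf_coe k ▸ hd)) z hz).symm
    have hL : ((S.subtype hc.sylow_le_normalizer : Subgroup ↥N) ⊔ K).Normal :=
      sylow_sup_normal (h.hyp.subgroup N) hK _
    have hle : ((S.subtype hc.sylow_le_normalizer : Subgroup ↥N) ⊔ K).map N.subtype ≤ centralizer ({z} : Set G) := by
      rw [Subgroup.map_sup]
      refine sup_le ?_ hKC
      rintro _ ⟨x, hx, rfl⟩
      exact hzS hx
    refine hle ⟨⟨n, hn⟩⁻¹ * ⟨s, hc.sylow_le_normalizer hs⟩ * ⟨n, hn⟩, ?_, rfl⟩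
    simpa using hL.conj_mem ⟨s, hc.sylow_le_normalizer hs⟩ (mem_sup_left hs) (⟨n, hn⟩⁻¹)
  have hwS : ∀ s ∈ (S : Subgroup G), s * w = w * s := fun s hs => by
    have h1 := mem_centralizer_singleton_iff.1 (hfix s hs)
    calc s * w = n * ((n⁻¹ * s * n) * z) * n⁻¹ := by simp only [w]; group
      _ = n * (z * (n⁻¹ * s * n)) * n⁻¹ := by rw [h1]
      _ = w * s := by simp only [w]; group
  set B := A ⊓ centralizer ((S : Subgroup G) : Set G)
  have hwB : w ∈ B := ⟨hw, mem_centralizer_iff.2 fun s hs => hwS s hs⟩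
  have hzB : z ∈ B := ⟨hz, mem_centralizer_iff.2 fun s hs => mem_centralizer_singleton_iff.1 (hzS hs)⟩
  have h3 : 3 ≤ Nat.card B := by
    let f : Fin 3 → ↥B := ![1, ⟨z, hzB⟩, ⟨w, hwB⟩]
    have hf : Function.Injective f := by
      intro i j e
      fin_cases i <;> fin_cases j <;> simp [f, Subtype.ext_iff] at e <;>
        first
        | rfl
        | exact absurd e hz1
        | exact absurd e.symm hz1
        | exact absurd e hw1
        | exact absurd e.symm hw1
        | exact absurd e hne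
        | exact absurd e.symm hne
    simpa using Nat.card_le_card_of_injective f hf
  have hBA : Nat.card B ∣ Nat.card A := card_dvd_of_le inf_le_left
  obtain ⟨k, hk⟩ := IsPGroup.iff_card.1 ((Signalizer.isPGroup_of_elemAb hc.elem).to_le (inf_le_left : B ≤ A))
  have h4 : 4 ≤ Nat.card B := by
    rw [hk] at h3 ⊢
    rcases k with _ | _ | k
    · simp at h3
    · simp at h3
    · exact (show 4 ≤ 2 ^ 2 by norm_num).trans (Nat.pow_le_pow_right two_pos (by omega))
  refine ⟨h4.trans (Subgroup.card_le_of_le inf_le_left), fun hA4 s hs => mem_centralizer_iff.2 fun a ha => ?_⟩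
  have e : B = A := eq_of_le_of_card_ge inf_le_left (hA4.trans h4)
  exact (mem_centralizer_iff.1 ((e.ge ha).2) s hs).symm

/-- The prime three belongs to `π`. -/
theorem Min.three_mem (h : Min π G) (hc : PPrimeNilpotent.Closed S A) (h4 : Nat.card A ≤ 4) {z : G} (hz : z ∈ A)
    (hz1 : z ≠ 1) (hzS : (S : Subgroup G) ≤ centralizer ({z} : Set G)) : 3 ∈ π := by
  haveI : Fact (Nat.Prime 2) := ⟨Nat.prime_two⟩
  have hCS := (h.card_ge hc hz hz1 hzS).2 h4
  set N := normalizer (A : Set G)
  set C := centralizer (A : Set G)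
  obtain ⟨n, hn, hne⟩ := h.exists_moving hc hz hz1
  have hrel : C.relIndex N ≠ 1 := fun e => hne (by
    rw [← mem_centralizer_iff.1 (relIndex_eq_one.1 e hn) z hz, mul_inv_cancel_right])
  obtain ⟨r, hr, hrd⟩ := Nat.exists_prime_and_dvd hrel
  haveI : Fact r.Prime := ⟨hr⟩
  have hAb : A ≠ ⊥ := fun e => hz1 (Subgroup.mem_bot.1 (e ▸ hz))
  have hrπ := h.hyp.homog A hAb (isPi_of_isPGroup h.hyp.two (Signalizer.isPGroup_of_elemAb hc.elem)) r hr hrd
  rcases eq_or_ne r 3 with rfl | hr3
  · exact hrπ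
  exfalso
  rcases eq_or_ne r 2 with rfl | hr2
  · refine (S.subtype hc.sylow_le_normalizer).not_dvd_index (hrd.trans (Subgroup.index_dvd_of_le fun x hx => ?_))
    exact hCS hx
  obtain ⟨R⟩ : Nonempty (Sylow r ↥N) := inferInstance
  refine R.not_dvd_index (hrd.trans (Subgroup.index_dvd_of_le fun x hx => ?_))
  obtain ⟨k, hk⟩ := R.isPGroup' ⟨x, hx⟩
  have hxk : (x : G) ^ r ^ k = 1 := congrArg (fun w => ((Subtype.val w : ↥N) : G)) hk
  refine mem_subgroupOf.2 (mem_centralizer_iff.2 fun a ha => ?_)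
  rcases eq_or_ne a 1 with rfl | ha1
  · simp
  have h6 : (x : G) ^ 6 ∈ centralizer ({a} : Set G) := by
    let f : Option (Fin 4) → ↥A := fun o => o.elim 1 fun i =>
      ⟨(x : G) ^ (i : ℕ) * a * ((x : G) ^ (i : ℕ))⁻¹, (mem_normalizer_iff.1 (pow_mem x.2 (i : ℕ)) a).1 ha⟩
    have hnone : ∀ i : Fin 4, f none ≠ f (some i) := fun i e =>
      ha1 (conj_eq_one_iff.1 (congrArg Subtype.val e).symm)
    obtain ⟨i, j, hij, he⟩ : ∃ i j : Fin 4, (i : ℕ) < j ∧
        (x : G) ^ (i : ℕ) * a * ((x : G) ^ (i : ℕ))⁻¹ = (x : G) ^ (j : ℕ) * a * ((x : G) ^ (j : ℕ))⁻¹ := by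
      by_contra hcon
      push Not at hcon
      have hinj : Function.Injective f := by
        rintro (_ | i) (_ | j) e
        · rfl
        · exact absurd e (hnone j)
        · exact absurd e.symm (hnone i)
        · rcases lt_trichotomy (i : ℕ) j with hl | hl | hl
          · exact absurd (congrArg Subtype.val e) (hcon i j hl)
          · rw [Fin.ext hl]
          · exact absurd (congrArg Subtype.val e).symm (hcon j i hl)
      have h5 := Nat.card_le_card_of_injective f hinj
      simp at h5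
      omega
    have hd : (x : G) ^ ((j : ℕ) - i) ∈ centralizer ({a} : Set G) := by
      refine mem_centralizer_singleton_iff.2 ?_
      rw [← Nat.add_sub_cancel' hij.le, pow_add] at he
      set b := (x : G) ^ (i : ℕ)
      set d := (x : G) ^ ((j : ℕ) - i)
      have h1 : b * a * b⁻¹ = b * (d * a * d⁻¹) * b⁻¹ := he.trans (by group)
      exact (mul_inv_eq_iff_eq_mul.1 (mul_left_cancel (mul_right_cancel h1)).symm)
    obtain ⟨c, hc6⟩ : (j : ℕ) - i ∣ 6 := by
      have hj : (j : ℕ) < 4 := j.2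
      have : (j : ℕ) - i = 1 ∨ (j : ℕ) - i = 2 ∨ (j : ℕ) - i = 3 := by omega
      rcases this with e | e | e <;> rw [e] <;> norm_num
    rw [hc6, pow_mul]
    exact pow_mem hd c
  have hx1 := PPrimeNilpotent.mem_of_coprime_pow (K := centralizer ({a} : Set G)) (n := (x : G))
    (a := 6) (b := r ^ k) (Nat.Coprime.pow_right k ((hr.coprime_iff_not_dvd.2 fun hd => ?_).symm)) h6
    (by rw [hxk]; exact one_mem _)
  · exact (mem_centralizer_singleton_iff.1 hx1).symm
  · have := Nat.le_of_dvd (by norm_num) hd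
    interval_cases r <;> first | omega | norm_num at hr

/-- A proper subgroup containing the normalizer of `A` and the cores, when `S` has a further involution. -/
theorem Min.exists_container_four (h : Min π G) (hc : PPrimeNilpotent.Closed S A) (h4 : Nat.card A = 4)
    {z : G} (hz : z ∈ A) (hz1 : z ≠ 1) (hCS : (S : Subgroup G) ≤ centralizer (A : Set G)) {t : G}
    (htS : t ∈ (S : Subgroup G)) (ht : t * t = 1) (htA : t ∉ A) :
    ∃ M : Subgroup G, M ≠ ⊤ ∧ normalizer (A : Set G) ≤ M ∧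
      ∀ a ∈ A, a ≠ 1 → Cfsg.centralizerPPrimeCore 2 a ≤ M := by
  haveI : Fact (Nat.Prime 2) := ⟨Nat.prime_two⟩
  set E := A ⊔ zpowers t
  have htC : ∀ a ∈ A, Commute a t := fun a ha => mem_centralizer_iff.1 (hCS htS) a ha
  have hnorm : zpowers t ≤ normalizer (A : Set G) := zpowers_le.2 (hc.sylow_le_normalizer htS)
  have hmemE : ∀ x ∈ E, ∃ a ∈ A, ∃ i : ℤ, a * t ^ i = x := by
    intro x hx
    rw [← SetLike.mem_coe, coe_mul_of_right_le_normalizer_left _ _ hnorm] at hx
    obtain ⟨a, ha, _, ⟨i, rfl⟩, rfl⟩ := hx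
    exact ⟨a, ha, i, rfl⟩
  have hE : Cfsg.IsElementaryAbelian 2 E := by
    refine ⟨⟨⟨fun x y => Subtype.ext ?_⟩⟩, fun x hx => ?_⟩
    · obtain ⟨a, ha, i, hai⟩ := hmemE x x.2
      obtain ⟨b, hb, j, hbj⟩ := hmemE y y.2
      show (x : G) * y = y * x
      rw [← hai, ← hbj]
      have hab : Commute a b := Signalizer.commute_of_isMulCommutative hc.elem.1 ha hb
      exact (((hab.mul_right ((htC a ha).zpow_right j)).mul_left
        ((((htC b hb).zpow_right i).symm).mul_right ((Commute.refl t).zpow_zpow i j)))).eq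
    · obtain ⟨a, ha, i, rfl⟩ := hmemE x hx
      rw [((htC a ha).zpow_right i).mul_pow, hc.elem.2 a ha, one_mul, ← zpow_natCast, ← zpow_mul, mul_comm, zpow_mul,
        zpow_natCast, pow_two, ht, one_zpow]
  have h8 : 8 ≤ Nat.card E := by
    have hlt : A < E := lt_of_le_of_ne le_sup_left fun e => htA (e.ge (mem_sup_right (mem_zpowers t)))
    obtain ⟨k, hk⟩ := IsPGroup.iff_card.1 (Signalizer.isPGroup_of_elemAb hE)
    have h5 : 4 < Nat.card E := by
      by_contra h5
      exact hlt.ne (eq_of_le_of_card_ge hlt.le (by omega))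
    rw [hk] at h5 ⊢
    have : 3 ≤ k := by
      by_contra h3
      have := Nat.pow_le_pow_right two_pos (show k ≤ 2 by omega)
      omega
    exact (show 8 ≤ 2 ^ 3 by norm_num).trans (Nat.pow_le_pow_right two_pos this)
  have hsolv : ∀ a ∈ E, a ≠ 1 → Group.IsSolvable ↥(centralizer ({a} : Set G)) := fun a ha ha1 =>
    h.centralizer_solvable (orderOf_eq_prime (hE.2 a ha) ha1)
  obtain ⟨-, hW2, -⟩ := Signalizer.solvable_signalizer_functor hE (by simpa using h8)
    (Signalizer.isSolvableSignalizerFunctor_core hE hsolv)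
  set W := ⨆ a : {a : G // a ∈ A ∧ a ≠ 1}, Cfsg.centralizerPPrimeCore 2 (a : G) with hW
  have hle : ∀ a ∈ A, a ≠ 1 → Cfsg.centralizerPPrimeCore 2 a ≤ W := fun a ha ha1 =>
    le_iSup (fun a : {a : G // a ∈ A ∧ a ≠ 1} => Cfsg.centralizerPPrimeCore 2 (a : G)) ⟨a, ha, ha1⟩
  have hWE : W = ⨆ e : {e : G // e ∈ E ∧ e ≠ 1}, Cfsg.centralizerPPrimeCore 2 (e : G) := by
    refine le_antisymm (iSup_le fun a => le_iSup (fun e : {e : G // e ∈ E ∧ e ≠ 1} =>
      Cfsg.centralizerPPrimeCore 2 (e : G)) ⟨(a : G), mem_sup_left a.2.1, a.2.2⟩) (iSup_le ?_)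
    rintro ⟨e, he, he1⟩
    have hcom : ∀ a ∈ A, Commute a e := fun a ha =>
      Signalizer.commute_of_isMulCommutative hE.1 (mem_sup_left ha) he
    refine Signalizer.le_of_elements hc.elem (by rw [h4]; norm_num) W _ (Signalizer.not_dvd_card_core e)
      (fun b hb => Signalizer.centralizer_le_normalizer_core e (mem_centralizer_singleton_iff.2 (hcom b hb))) ?_
    intro b hb hb1
    haveI := hsolv b (mem_sup_left hb) hb1
    exact (Signalizer.core_inf_centralizer_le_core (p := 2) (hE.2 e he)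
      (hcom b hb).symm
      HallHigman.isPConstrained_of_isSolvable).trans (hle b hb hb1)
  by_cases hbot : W = ⊥
  · exact ⟨_, h.normalizer_ne_top hc hz hz1, le_rfl, fun a ha ha1 => ((hle a ha ha1).trans hbot.le).trans bot_le⟩
  refine ⟨normalizer (W : Set G), fun e => ?_, fun g hg => ?_,
    fun a ha ha1 => (hle a ha ha1).trans le_normalizer⟩
  · rcases h.eq_bot_or_top W (normalizer_eq_top_iff.1 e) with e1 | e1
    · exact hbot e1
    · rw [← hWE, e1, Subgroup.card_top] at hW2
      exact hW2 h.even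
  · refine Signalizer.mem_normalizer_of_conj_mem fun x hx => ?_
    have hmap : W ≤ W.comap (MulAut.conj g).toMonoidHom := iSup_le fun a => by
      refine map_le_iff_le_comap.1 ?_
      rw [Signalizer.map_conj_centralizerPPrimeCore]
      exact hle _ ((mem_normalizer_iff.1 hg _).1 a.2.1) fun e => a.2.2 (conj_eq_one_iff.1 e)
    exact hmap hx

/-- Such a subgroup is strongly embedded when `A` is central in `S`. -/
theorem stronglyEmbedded_central (hc : PPrimeNilpotent.Closed S A) (h4 : Nat.card A = 4)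
    (hCS : (S : Subgroup G) ≤ centralizer (A : Set G)) {M : Subgroup G} (hM : M ≠ ⊤)
    (hN : normalizer (A : Set G) ≤ M)
    (hsolv : ∀ v : G, orderOf v = 2 → Group.IsSolvable ↥(centralizer ({v} : Set G)))
    (hθ : ∀ a ∈ A, a ≠ 1 → Cfsg.centralizerPPrimeCore 2 a ≤ M) : Cfsg.IsStronglyEmbedded M := by
  haveI : Fact (Nat.Prime 2) := ⟨Nat.prime_two⟩
  have hAA : ∀ v ∈ (S : Subgroup G), A ≤ centralizer ({v} : Set G) := fun v hv b hb =>
    mem_centralizer_singleton_iff.2 (mem_centralizer_iff.1 (hCS hv) b hb)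
  have hCa : ∀ a ∈ A, a ≠ 1 → centralizer ({a} : Set G) ≤ M := fun a ha ha1 =>
    hc.centralizer_le hN (hsolv a (hc.orderOf_eq ha ha1)) (hθ a ha ha1) ha ha1 (Commute.refl a)
      (Or.inr (hAA a (hc.le ha)))
  have hSM : (S : Subgroup G) ≤ M := hc.sylow_le_normalizer.trans hN
  obtain ⟨a, ha, ha1⟩ := (Subgroup.bot_or_exists_ne_one A).resolve_left fun e => by
    rw [e, Subgroup.card_bot] at h4
    omega
  have hCv : ∀ v ∈ (S : Subgroup G), orderOf v = 2 → centralizer ({v} : Set G) ≤ M := by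
    intro v hvS hv
    refine hc.centralizer_le hN (hsolv v hv) ?_ ha ha1
      (mem_centralizer_singleton_iff.1 (hAA v hvS ha)) (Or.inl hCa)
    refine Signalizer.le_of_elements hc.elem (by rw [h4]; norm_num) M _ (Signalizer.not_dvd_card_core v)
      (fun b hb => Signalizer.centralizer_le_normalizer_core v (hAA v hvS hb)) ?_
    intro b hb hb1
    haveI := hsolv b (hc.orderOf_eq hb hb1)
    exact (Signalizer.core_inf_centralizer_le_core (p := 2) (by rw [sq]; exact Involution.mul_self hv)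
      (mem_centralizer_singleton_iff.1 (hAA v hvS hb)).symm
      HallHigman.isPConstrained_of_isSolvable).trans (hθ b hb hb1)
  have hSyl : Fusion.IsSylowIn 2 (S : Subgroup G) M :=
    ⟨hSM, S.isPGroup', fun _ h1 _ h3 => S.is_maximal' h3 h1⟩
  refine Involution.isStronglyEmbedded_iff_forall.2 ⟨hM, ?_, fun g t ht htM hg => ?_⟩
  · rw [even_iff_two_dvd, ← hc.orderOf_eq ha ha1]
    exact orderOf_dvd_natCard M (hSM (hc.le ha))
  obtain ⟨m, hm, hmt⟩ := hSyl.exists_conj_le (H := zpowers t)
    (IsPGroup.of_card (n := 1) (by rw [Nat.card_zpowers, ht, pow_one])) (zpowers_le.2 htM)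
  obtain ⟨m', hm', hmt'⟩ := hSyl.exists_conj_le (H := zpowers (g * t * g⁻¹))
    (IsPGroup.of_card (n := 1) (by rw [Nat.card_zpowers, Involution.orderOf_conj, ht, pow_one])) (zpowers_le.2 hg)
  set x := m' * g * m⁻¹ with hx
  set s := m * t * m⁻¹ with hs
  have hsS : s ∈ (S : Subgroup G) := hmt t (mem_zpowers t)
  have hs2 : orderOf s = 2 := by rw [Involution.orderOf_conj, ht]
  have hs' : x * s * x⁻¹ ∈ (S : Subgroup G) := by
    have := hmt' _ (mem_zpowers (g * t * g⁻¹))
    simpa [hx, hs, mul_assoc] using this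
  have has : Commute a s := mem_centralizer_singleton_iff.1 (hAA s hsS ha)
  have hxd : x * a * x⁻¹ ∈ M := by
    refine hCv _ hs' (by rw [Involution.orderOf_conj, hs2]) (mem_centralizer_singleton_iff.2 ?_)
    calc x * a * x⁻¹ * (x * s * x⁻¹) = x * (a * s) * x⁻¹ := by group
      _ = x * (s * a) * x⁻¹ := by rw [has.eq]
      _ = _ := by group
  obtain ⟨c, hc', hcd⟩ := hSyl.exists_conj_le (H := zpowers (x * a * x⁻¹))
    (IsPGroup.of_card (n := 1) (by rw [Nat.card_zpowers, Involution.orderOf_conj, hc.orderOf_eq ha ha1, pow_one]))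
    (zpowers_le.2 hxd)
  have h5 : c * x * a * (c * x)⁻¹ ∈ A := hc.sc.2 a ha (c * x) (by
    simpa [mul_assoc] using hcd _ (mem_zpowers (x * a * x⁻¹)))
  have h6 : c * x ∈ M := hc.mem_of_fused hN ha h5 (hCa _ h5 fun e => ha1 (conj_eq_one_iff.1 e))
  have h7 : m'⁻¹ * (c⁻¹ * (c * x)) * m ∈ M := mul_mem (mul_mem (inv_mem hm') (mul_mem (inv_mem hc') h6)) hm
  simpa [hx, mul_assoc] using h7

/-- The strongly closed subgroup is a four-group containing all involutions of `S`. -/
theorem Min.exists_omega (h : Min π G) (S : Sylow 2 G) :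
    3 ∈ π ∧ ∃ A : Subgroup G, Nat.card A = 4 ∧ A ≤ (S : Subgroup G) ∧
      (S : Subgroup G) ≤ centralizer (A : Set G) ∧ ∀ x ∈ (S : Subgroup G), x * x = 1 ↔ x ∈ A := by
  haveI : Fact (Nat.Prime 2) := ⟨Nat.prime_two⟩
  haveI := h.simple
  obtain ⟨A, hc, z, hz, hz1, hzS⟩ := h.exists_closed S
  obtain ⟨h4le, hcen⟩ := h.card_ge hc hz hz1 hzS
  have h4 : Nat.card A = 4 := by
    by_contra hne
    have h8 : 8 ≤ Nat.card A := by
      obtain ⟨k, hk⟩ := IsPGroup.iff_card.1 (Signalizer.isPGroup_of_elemAb hc.elem)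
      rw [hk] at h4le hne ⊢
      have : 3 ≤ k := by
        by_contra h3
        have := Nat.pow_le_pow_right two_pos (show k ≤ 2 by omega)
        omega
      exact (show 8 ≤ 2 ^ 3 by norm_num).trans (Nat.pow_le_pow_right two_pos this)
    have hsolv : ∀ v : G, orderOf v = 2 → Group.IsSolvable ↥(centralizer ({v} : Set G)) :=
      fun _ hv => h.centralizer_solvable hv
    obtain ⟨M, hM, hNM, hθ⟩ :=
      PPrimeNilpotent.exists_container h.even hc.elem h8 (h.normalizer_ne_top hc hz hz1) hsolv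
    exact h.not_stronglyEmbedded (hc.stronglyEmbedded h8 hM hNM hsolv hθ)
  have hCS := hcen h4.le
  refine ⟨h.three_mem hc h4.le hz hz1 hzS, A, h4, hc.le, hCS, fun x hx => ⟨fun hxx => ?_, fun hxA => ?_⟩⟩
  · by_contra hxA
    obtain ⟨M, hM, hNM, hθ⟩ := h.exists_container_four hc h4 hz hz1 hCS hx hxx hxA
    exact h.not_stronglyEmbedded
      (stronglyEmbedded_central hc h4 hCS hM hNM (fun _ hv => h.centralizer_solvable hv) hθ)
  · rw [← sq]; exact hc.elem.2 x hxA

end Cfsg.Agent.PiHomog
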