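/-
The groups `PSL₂(q)` are not pi-homogeneous with 2-closed pi-subgroups when `3 ∈ π`.

Main results (namespace `Cfsg.Agent.PiHomog`):
* `Hyp.no_dihedral_sub` : no dihedral subgroup of order `2r`, `r ∈ π` an odd prime;
* `not_hyp_psl` : `PSL₂(q)` does not embed into a group satisfying the hypotheses.
-/
import Cfsg.Agent.Lib.PiHomog.Basic
import Cfsg.Agent.Lib.PSL2.Existence
import Cfsg.Agent.Lib.PSL2.Presentation
import Cfsg.Agent.Lib.Signalizer.PAction

set_option autoImplicit false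
set_option linter.unusedSectionVars false
set_option linter.style.haveILetI false

namespace Cfsg.Agent.PiHomog

open Subgroup

universe u

variable {π : Set ℕ}

theorem Hyp.no_dihedral_sub {G : Type u} [Group G] [Finite G] (h : Hyp π G) {r : ℕ} (hr : r.Prime) (hr2 : r ≠ 2)
    (hrπ : r ∈ π) {H : Subgroup G} (e : ↥H ≃* DihedralGroup r) : False := by
  refine h.no_dihedral (u := ((e.symm (DihedralGroup.sr 0) : ↥H) : G)) (x := ((e.symm (DihedralGroup.r 1) : ↥H) : G))
    ?_ hr hr2 ?_ hrπ ?_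
  · rw [Subgroup.orderOf_coe, MulEquiv.orderOf_eq, DihedralGroup.orderOf_sr]
  · rw [Subgroup.orderOf_coe, MulEquiv.orderOf_eq, DihedralGroup.orderOf_r_one]
  · rw [← Subgroup.coe_inv, ← Subgroup.coe_inv, ← Subgroup.coe_mul, ← Subgroup.coe_mul, ← map_inv, ← map_inv,
      ← map_mul, ← map_mul]
    congr 2
    simp

/-- `PSL₂(q)` does not embed into a group satisfying the hypotheses with `3 ∈ π`. -/
theorem not_hyp_psl {F : Type} [Field F] [Finite F] (h3 : 3 ∈ π) (hq : 4 ≤ Nat.card F)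
    (h8 : 3 ∣ Nat.card F → Nat.card F % 8 = 3 ∨ Nat.card F % 8 = 5)
    {G : Type u} [Group G] [Finite G] (g : PSL2.PSL2 F →* G) (hg : Function.Injective g) (h : Hyp π G) : False := by
  set q := Nat.card F with hqdef
  by_cases hdiv : 3 ∣ q
  · -- characteristic three: an odd prime dividing `(q - 1) / 2`
    have hq5 : q ≠ 5 := fun e => by rw [e] at hdiv; omega
    obtain ⟨m, hm2, hmd, hmodd⟩ : ∃ m, 2 ≤ m ∧ m ∣ (q - 1) / 2 ∧ ¬ 2 ∣ m := by
      rcases h8 hdiv with h8 | h8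
      · exact ⟨(q - 1) / 2, by omega, dvd_rfl, by omega⟩
      · exact ⟨(q - 1) / 4, by omega, ⟨2, by omega⟩, by omega⟩
    obtain ⟨r, hr, hrm⟩ := Nat.exists_prime_and_dvd (show m ≠ 1 by omega)
    have hr2 : r ≠ 2 := fun e => hmodd (e ▸ hrm)
    have hgcd : Nat.gcd 2 (q - 1) = 2 := Nat.gcd_eq_left (by rcases h8 hdiv with h8 | h8 <;> omega)
    have hrd : r ∣ (q - 1) / Nat.gcd 2 (q - 1) := by rw [hgcd]; exact hrm.trans hmd
    have hrq : r ∣ q - 1 := hrd.trans (Nat.div_dvd_of_dvd (Nat.gcd_dvd_right _ _))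
    obtain ⟨H, ⟨e⟩⟩ := PSL2.exists_dihedral_sub (F := F) hr.two_le (Or.inl hrd)
    by_cases hrπ : r ∈ π
    · exact h.no_dihedral_sub hr hr2 hrπ ((H.equivMapOfInjective g hg).symm.trans e)
    haveI : Fact r.Prime := ⟨hr⟩
    obtain ⟨a, ha⟩ := exists_prime_orderOf_dvd_card' (G := Fˣ) r (by rw [Nat.card_units]; exact hrq)
    set f : Multiplicative F →* PSL2.PSL2 F :=
      (QuotientGroup.mk' _).comp (PSL2.Pres.upHom (F := F)) with hf
    set d : PSL2.PSL2 F := QuotientGroup.mk (PSL2.Pres.dg a) with hd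
    have hconj : ∀ x : F, d * f (Multiplicative.ofAdd x) * d⁻¹ = f (Multiplicative.ofAdd ((a : F) ^ 2 * x)) := by
      intro x
      show _ = QuotientGroup.mk (PSL2.upT ((a : F) ^ 2 * x))
      rw [← PSL2.Pres.dg_conj]
      rfl
    haveI : Fintype F := Fintype.ofFinite F
    have hU : IsPi π (g.comp f).range := by
      intro p hp hpd
      have h1 : p ∣ q := by
        have := hpd.trans (Subgroup.card_range_dvd (g.comp f))
        rwa [Nat.card_congr (Multiplicative.toAdd (α := F))] at this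
      obtain ⟨c, hc⟩ := CharP.exists F
      haveI : Fact c.Prime := ⟨CharP.char_is_prime F c⟩
      obtain ⟨n, hn, hcq⟩ := FiniteField.card F c
      rw [hqdef, Nat.card_eq_fintype_card, hcq] at h1 hdiv
      have e1 := (Nat.prime_dvd_prime_iff_eq hp hn).1 (hp.dvd_of_dvd_pow h1)
      have e2 := (Nat.prime_dvd_prime_iff_eq Nat.prime_three hn).1 (Nat.prime_three.dvd_of_dvd_pow hdiv)
      rwa [e1, ← e2]
    have hdN : g d ∈ normalizer ((g.comp f).range : Set G) := Signalizer.mem_normalizer_of_conj_mem fun y hy => by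
      obtain ⟨x, rfl⟩ := hy
      exact ⟨_, ((congrArg g (hconj x.toAdd)).symm.trans (by simp only [map_mul, map_inv]; rfl))⟩
    have hdπ : IsPiPrime π (g d) := fun p hp hpd => by
      have h1 : orderOf d ∣ r :=
        ha ▸ (orderOf_map_dvd (QuotientGroup.mk' _) (PSL2.Pres.dg a)).trans (orderOf_map_dvd _ a)
      exact (Nat.prime_dvd_prime_iff_eq hp hr).1 ((hpd.trans (orderOf_map_dvd g d)).trans h1) ▸ hrπ
    have hc : f (Multiplicative.ofAdd 1) * d = d * f (Multiplicative.ofAdd 1) := hg (by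
      rw [map_mul, map_mul]
      exact mem_centralizer_iff.1 (h.homog.mem_centralizer hU hdN hdπ) _ ⟨Multiplicative.ofAdd 1, rfl⟩)
    have h1 := hconj 1
    rw [← hc, mul_inv_cancel_right, mul_one] at h1
    have hker : (QuotientGroup.mk ((PSL2.upT (1 : F))⁻¹ * PSL2.upT ((a : F) ^ 2)) : PSL2.PSL2 F) = 1 := by
      rw [QuotientGroup.mk_mul, QuotientGroup.mk_inv, inv_mul_eq_one]
      exact h1
    have hsq : (a : F) ^ 2 = 1 := by
      rcases PSL2.mk_eq_one_iff.1 hker with e | e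
      · rw [inv_mul_eq_one] at e
        have := congrArg (fun g : PSL2.SL2 F => g.1 0 1) e
        simpa [PSL2.Pres.upT_coe] using this.symm
      · rw [inv_mul_eq_iff_eq_mul] at e
        have h2 := congrArg (fun g : PSL2.SL2 F => g.1 0 0) e
        simp [PSL2.Pres.upT_coe] at h2
        exact absurd (show (2 : F) = 0 by linear_combination h2)
          (PSL2.two_ne_zero_of_dvd (hgcd ▸ Nat.gcd_dvd_right 2 (q - 1)))
    have : r ∣ 2 := ha ▸ orderOf_dvd_of_pow_eq_one (Units.ext (by rw [Units.val_pow_eq_pow_val, hsq, Units.val_one]))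
    exact hr2 ((Nat.prime_dvd_prime_iff_eq hr Nat.prime_two).1 this)
  · have hg3 : Nat.Coprime 3 (Nat.gcd 2 (q - 1)) :=
      (show Nat.Coprime 3 2 by norm_num).coprime_dvd_right (Nat.gcd_dvd_left _ _)
    have hd1 : Nat.gcd 2 (q - 1) ∣ q - 1 := Nat.gcd_dvd_right _ _
    have hd2 : Nat.gcd 2 (q - 1) ∣ q + 1 := by
      have h2 := Nat.dvd_add hd1 (Nat.gcd_dvd_left 2 (q - 1))
      rwa [show q - 1 + 2 = q + 1 by omega] at h2
    have hsplit : 3 ∣ q - 1 ∨ 3 ∣ q + 1 := by omega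
    obtain ⟨H, ⟨e⟩⟩ := PSL2.exists_dihedral_sub (F := F) (n := 3) (by omega) (hsplit.imp
      (fun h3 => (Nat.dvd_div_iff_mul_dvd hd1).2 (hg3.symm.mul_dvd_of_dvd_of_dvd hd1 h3))
      (fun h3 => (Nat.dvd_div_iff_mul_dvd hd2).2 (hg3.symm.mul_dvd_of_dvd_of_dvd hd2 h3)))
    exact h.no_dihedral_sub Nat.prime_three (by omega) h3 ((H.equivMapOfInjective g hg).symm.trans e)

end Cfsg.Agent.PiHomog
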