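/-
Pi-homogeneous groups with 2-closed pi-subgroups.

Main results (namespace `Cfsg.Agent.PiHomog`):
* `Min.false_of_threeInv` : no minimal counterexample, given the three involutions theorem;
* `split_iff_homog_of_threeInv` : the theorem, given the three involutions theorem.
-/
import Cfsg.Agent.Lib.PiHomog.Fusion
import Cfsg.Agent.Lib.PiHomog.PSL
import Cfsg.Agent.Lib.AbelianSylowTwo.SolvCent
import Cfsg.Agent.Lib.GWKlein.General.Main
import Cfsg.Agent.Lib.Goldschmidt.ThreeInv.Statement

set_option autoImplicit false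
set_option linter.unusedSectionVars false
set_option linter.style.haveILetI false

namespace Cfsg.Agent.PiHomog

open Subgroup

universe u

variable {π : Set ℕ} {G : Type u} [Group G] [Finite G]

/-- There is no minimal counterexample with abelian Sylow 2-subgroups. -/
theorem Min.false_of_abelian (h : Min π G) (h3 : 3 ∈ π) (S : Sylow 2 G)
    (hS : IsMulCommutative ↥(S : Subgroup G)) : False := by
  rcases AbelianSylowTwo.solvable_or_psl GWKlein.kleinGWSolvable S hS fun _ ht => h.centralizer_solvable ht with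
    hsol | ⟨F, _, _, hF, N, hNn, ⟨e⟩, hNc⟩
  · haveI := h.simple
    exact h.nonab ⟨⟨IsSimpleGroup.comm_iff_isSolvable.2 hsol⟩⟩
  · haveI : (Cfsg.oddCore G).Normal := Cores.pPrimeCore_normal 2 G
    let ψ : G ⧸ Cfsg.oddCore G ≃* G :=
      (QuotientGroup.quotientMulEquivOfEq (h.core_eq : Cfsg.oddCore G = ⊥)).trans QuotientGroup.quotientBot
    have hq : 4 ≤ Nat.card F := by
      rw [Nat.card_eq_fintype_card]
      rcases hF with ⟨-, h5⟩ | ⟨n, hn, hc⟩
      · omega
      · rw [hc]
        exact (show 4 ≤ 2 ^ 2 by norm_num).trans (Nat.pow_le_pow_right two_pos hn)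
    have h8 : 3 ∣ Nat.card F → Nat.card F % 8 = 3 ∨ Nat.card F % 8 = 5 := fun hd => by
      rw [Nat.card_eq_fintype_card] at hd ⊢
      rcases hF with ⟨h8, -⟩ | ⟨n, -, hc⟩
      · exact h8
      · rw [hc] at hd
        exact absurd (Nat.prime_three.dvd_of_dvd_pow hd) (by norm_num)
    exact not_hyp_psl h3 hq h8 ((ψ.toMonoidHom.comp N.subtype).comp e.symm.toMonoidHom)
      ((ψ.injective.comp N.subtype_injective).comp e.symm.injective) h.hyp

/-- There is no minimal counterexample. -/
theorem Min.false_of_threeInv (hT : Goldschmidt.ThreeInv.ThreeInvTarget.{u}) (h : Min π G) : False := by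
  obtain ⟨S⟩ : Nonempty (Sylow 2 G) := by
    haveI : Fact (Nat.Prime 2) := ⟨Nat.prime_two⟩
    infer_instance
  obtain ⟨h3, A, hA4, hAS, hCS, hmem⟩ := h.exists_omega S
  by_cases hS : IsMulCommutative ↥(S : Subgroup G)
  · exact h.false_of_abelian h3 S hS
  · haveI := h.simple
    obtain ⟨M, hM⟩ := hT G S A ⟨hA4, hAS, hmem, hCS, hS⟩
    exact h.not_stronglyEmbedded hM

/-- **The theorem**, given the three involutions theorem. -/
theorem split_iff_homog_of_threeInv (hT : Goldschmidt.ThreeInv.ThreeInvTarget.{u}) (h2 : 2 ∈ π)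
    (hS : TwoClosed π G) : Split π G ↔ Homog π G := by
  refine ⟨homog_of_split, fun hh => split_of_simple ?_ (Nat.card G) G rfl ⟨h2, hS, hh⟩⟩
  intro X _ _ hX hna hy hsub
  exact Min.false_of_threeInv hT ⟨hy, hsub, hX, hna⟩

end Cfsg.Agent.PiHomog
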